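import Mathlib.CategoryTheory.Presentable.Finite
import Mathlib.CategoryTheory.Comma.Over.Basic
import Mathlib.CategoryTheory.ObjectProperty.FullSubcategory
import Mathlib.CategoryTheory.Limits.Types.Filtered
import Mathlib.Algebra.Category.Ring.FilteredColimits
import Mathlib.Algebra.Category.Ring.Colimits
import Mathlib.FieldTheory.PerfectClosure
import Mathlib.FieldTheory.IsPerfectClosure
import Mathlib.RingTheory.FinitePresentation
import Mathlib.RingTheory.MvPolynomial.Basic
import Mathlib.Algebra.CharP.Algebra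

/-!
# Compact perfect algebras are perfectly finitely presented
-/

namespace GrothLib.PerfFP

open CategoryTheory Limits

universe u

variable (p : ℕ) [Fact p.Prime] (B : CommRingCat.{u})

/-- The property of being a perfect algebra. -/
abbrev Pr : ObjectProperty (Under B) :=
  fun Y : Under B => (p : Y.right) = 0 ∧ Function.Bijective fun y : Y.right => y ^ p

variable {p B}

/-- Make an object. -/
abbrev mkObj (R : Type u) [CommRing R] [Algebra B R] (h : (p : R) = 0 ∧ Function.Bijective fun y : R => y ^ p) :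
    (Pr p B).FullSubcategory :=
  ⟨Under.mk (CommRingCat.ofHom (algebraMap B R)), h⟩

theorem isColimit_of_pointwise {J : Type u} [SmallCategory J] [IsFiltered J]
    {D : J ⥤ (Pr p B).FullSubcategory} (c : Cocone D)
    (hsurj : ∀ x : c.pt.obj.right, ∃ j, ∃ y : (D.obj j).obj.right, (c.ι.app j).hom.right y = x)
    (hinj : ∀ j (y z : (D.obj j).obj.right), (c.ι.app j).hom.right y = (c.ι.app j).hom.right z →
      ∃ (k : J) (f : j ⟶ k), (D.map f).hom.right y = (D.map f).hom.right z) :
    Nonempty (IsColimit c) := by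
  haveI : ReflectsColimitsOfShape J (forget CommRingCat.{u}) :=
    reflectsColimitsOfShape_of_reflectsIsomorphisms
  let U : (Pr p B).FullSubcategory ⥤ CommRingCat.{u} := ObjectProperty.ι _ ⋙ Under.forget B
  have h1 : IsColimit (U.mapCocone c) :=
    isColimitOfReflects (forget CommRingCat.{u}) (Types.FilteredColimit.isColimitOf' _ _
      (fun x => by obtain ⟨j, y, h⟩ := hsurj x; exact ⟨j, y, h.symm⟩)
      (fun j y z h => hinj j y z h))
  obtain ⟨j₀⟩ := (IsFiltered.nonempty : Nonempty J)
  refine ⟨{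
    desc := fun s => ObjectProperty.homMk (Under.homMk (h1.desc (U.mapCocone s)) ?_)
    fac := fun s j => ObjectProperty.hom_ext _ (Under.UnderMorphism.ext (h1.fac (U.mapCocone s) j))
    uniq := fun s m hm => ObjectProperty.hom_ext _ (Under.UnderMorphism.ext
      (h1.uniq (U.mapCocone s) m.hom.right fun j => congrArg (fun f => f.hom.right) (hm j))) }⟩
  have h2 : (c.ι.app j₀).hom.right ≫ h1.desc (U.mapCocone s) = (s.ι.app j₀).hom.right :=
    h1.fac (U.mapCocone s) j₀
  have h3 : (D.obj j₀).obj.hom ≫ (c.ι.app j₀).hom.right = c.pt.obj.hom := Under.w (c.ι.app j₀).hom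
  exact (congrArg (fun t => t ≫ h1.desc (U.mapCocone s)) h3).symm.trans
    ((Category.assoc _ _ _).trans ((congrArg (fun t => (D.obj j₀).obj.hom ≫ t) h2).trans
      (Under.w (s.ι.app j₀).hom)))

variable [CharP B p] [PerfectRing B p]

section

variable {R : Type u} [CommRing R] [Algebra B R] [CharP R p] [PerfectRing R p]

/-- Elements with a `p`-power root-tower in a subalgebra. -/
def radSub (S : Subalgebra B R) : Subalgebra B R where
  carrier := {x | ∃ n, x ^ p ^ n ∈ S}
  mul_mem' := fun {x y} ⟨n, hn⟩ ⟨m, hm⟩ => ⟨n + m, by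
    rw [mul_pow]
    refine mul_mem ?_ ?_
    · rw [pow_add, pow_mul]; exact pow_mem hn _
    · rw [pow_add, mul_comm, pow_mul]; exact pow_mem hm _⟩
  add_mem' := fun {x y} ⟨n, hn⟩ ⟨m, hm⟩ => ⟨n + m, by
    rw [add_pow_char_pow]
    refine add_mem ?_ ?_
    · rw [pow_add, pow_mul]; exact pow_mem hn _
    · rw [pow_add, mul_comm, pow_mul]; exact pow_mem hm _⟩
  algebraMap_mem' := fun b => ⟨0, by rw [pow_zero, pow_one]; exact S.algebraMap_mem b⟩

theorem radSub_perfect (S : Subalgebra B R) :
    ((p : radSub (p := p) S) = 0) ∧ Function.Bijective fun y : radSub (p := p) S => y ^ p := by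
  refine ⟨Subtype.ext (by simp), fun x y h => Subtype.ext (injective_pow_p R p ?_), fun x => ?_⟩
  · simpa using congrArg Subtype.val h
  · obtain ⟨n, hn⟩ := x.2
    refine ⟨⟨(frobeniusEquiv R p).symm x.1, n + 1, ?_⟩, Subtype.ext ?_⟩
    · rw [pow_succ', pow_mul, frobeniusEquiv_symm_pow_p]; exact hn
    · simp [frobeniusEquiv_symm_pow_p]

/-- Quotient of a perfect ring by a radical ideal is perfect. -/
theorem quot_perfect {Q : Ideal R} (hQ : Q.IsRadical) :
    ((p : R ⧸ Q) = 0) ∧ Function.Bijective fun y : R ⧸ Q => y ^ p := by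
  refine ⟨by rw [← map_natCast (Ideal.Quotient.mk Q), CharP.cast_eq_zero, map_zero], fun x y h => ?_,
    fun x => ?_⟩
  · obtain ⟨x, rfl⟩ := Ideal.Quotient.mk_surjective x
    obtain ⟨y, rfl⟩ := Ideal.Quotient.mk_surjective y
    simp only [← map_pow] at h
    rw [Ideal.Quotient.eq, ← sub_pow_char] at h
    exact Ideal.Quotient.eq.2 (hQ ⟨p, h⟩)
  · obtain ⟨x, rfl⟩ := Ideal.Quotient.mk_surjective x
    exact ⟨Ideal.Quotient.mk Q ((frobeniusEquiv R p).symm x), by
      show (Ideal.Quotient.mk Q _) ^ p = _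
      rw [← map_pow, frobeniusEquiv_symm_pow_p]⟩

end

theorem main (A : (Pr p B).FullSubcategory) [IsFinitelyPresentable.{u} A] :
    ∃ (A₀ : Type u) (_ : CommRing A₀) (_ : Algebra B A₀) (_ : Algebra.FinitePresentation B A₀)
      (k : A₀ →+* A.obj.right), k.comp (algebraMap B A₀) = A.obj.hom.hom ∧ IsPRadical k p := by
  classical
  have hp : p.Prime := Fact.out
  rcases subsingleton_or_nontrivial A.obj.right with hs | hn
  · let I : Ideal (MvPolynomial (Fin 0) B) := ⊤
    haveI := Algebra.FinitePresentation.quotient (R := B) (I := I) ⟨{1}, by simp [I]⟩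
    refine ⟨MvPolynomial (Fin 0) B ⧸ I, inferInstance, inferInstance, inferInstance,
      Ideal.Quotient.lift I (MvPolynomial.eval₂Hom A.obj.hom.hom Fin.elim0) (fun _ _ => Subsingleton.elim _ _),
      RingHom.ext fun _ => Subsingleton.elim _ _, ⟨fun x => ⟨0, 1, Subsingleton.elim _ _⟩, fun x _ => ?_⟩⟩
    haveI : Subsingleton (MvPolynomial (Fin 0) B ⧸ I) := Ideal.Quotient.subsingleton_iff.2 rfl
    rw [Subsingleton.elim x 0]; exact zero_mem _
  letI : Algebra B A.obj.right := A.obj.hom.hom.toAlgebra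
  haveI : CharP A.obj.right p := (CharP.charP_iff_prime_eq_zero hp).2 A.property.1
  haveI : PerfectRing A.obj.right p := ⟨A.property.2⟩
  let R := A.obj.right
  -- finite generation
  let T : Finset R → Subalgebra B R := fun S => radSub (p := p) (Algebra.adjoin B (S : Set R))
  have hT : Monotone T := fun S S' h x ⟨n, hn⟩ => ⟨n, Algebra.adjoin_mono (by exact_mod_cast h) hn⟩
  let D : Finset R ⥤ (Pr p B).FullSubcategory :=
    { obj := fun S => mkObj (T S) (radSub_perfect _)
      map := fun {S S'} f => ObjectProperty.homMk (Under.homMk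
        (CommRingCat.ofHom (Subalgebra.inclusion (hT (leOfHom f))).toRingHom) (by ext; rfl))
      map_id := fun S => by ext; rfl
      map_comp := fun f g => by ext; rfl }
  let c : Cocone D :=
    { pt := A
      ι := { app := fun S => ObjectProperty.homMk (Under.homMk (CommRingCat.ofHom (T S).val.toRingHom)
              (by ext; rfl))
             naturality := fun S S' f => by ext; rfl } }
  obtain ⟨hc⟩ := isColimit_of_pointwise c
    (fun x => ⟨{x}, ⟨x, 0, Algebra.subset_adjoin (by simp)⟩, rfl⟩)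
    (fun S y z h => ⟨S, 𝟙 S, by rw [Subtype.ext (h : (y : T S).1 = (z : T S).1)]⟩)
  obtain ⟨S, q, hq⟩ := IsFinitelyPresentable.exists_hom_of_isColimit hc (𝟙 A)
  have hgen : ∀ x : R, ∃ n, x ^ p ^ n ∈ Algebra.adjoin B (S : Set R) := fun x => by
    have h := congrArg (fun f => f.hom.right x) hq
    let z : T S := q.hom.right x
    have h' : (z : R) = x := h
    obtain ⟨n, hn⟩ := z.2
    exact ⟨n, h' ▸ hn⟩
  clear hq q hc
  -- the presentation
  haveI : Nontrivial B := (algebraMap B R).domain_nontrivial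
  let Q := MvPolynomial S B
  haveI : CharP Q p := inferInstance
  let g : Q →ₐ[B] R := MvPolynomial.aeval (fun s : S => (s : R))
  have hrange : g.range = Algebra.adjoin B (S : Set R) := by
    rw [← Algebra.adjoin_range_eq_range_aeval]
    congr 1; ext x; simp
  let P := PerfectClosure Q p
  let ofP : Q →+* P := PerfectClosure.of Q p
  letI : Algebra B P := (ofP.comp (algebraMap B Q)).toAlgebra
  let gP : P →+* R := PerfectClosure.lift Q p R g.toRingHom
  have hgP : ∀ x, gP (ofP x) = g x := fun x =>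
    DFunLike.congr_fun ((PerfectClosure.lift Q p R).symm_apply_apply g.toRingHom) x
  have hofP : ∀ x : P, ∃ (n : ℕ) (y : Q), ofP y = x ^ p ^ n := fun x => by
    induction x using PerfectClosure.induction_on with
    | _ x => exact ⟨x.1, x.2, by
        rw [← iterate_frobenius, PerfectClosure.iterate_frobenius_mk]⟩
  have hgPs : Function.Surjective gP := fun x => by
    obtain ⟨n, hn⟩ := hgen x
    rw [← hrange] at hn
    obtain ⟨y, hy⟩ := hn
    refine ⟨PerfectClosure.mk Q p (n, y), ((bijective_iterateFrobenius R p n).1 ?_)⟩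
    rw [iterateFrobenius_def, iterateFrobenius_def, ← map_pow, ← iterate_frobenius,
      PerfectClosure.iterate_frobenius_mk]
    exact (hgP y).trans hy
  let K := RingHom.ker gP
  have hKr : K.IsRadical := fun x ⟨n, hn⟩ => by
    have h0 : gP x ^ n = 0 := by rw [← map_pow]; exact hn
    obtain ⟨r, hr⟩ : ∃ r, p ^ n = n + r := ⟨p ^ n - n, by have := Nat.lt_pow_self (n := n) hp.one_lt; omega⟩
    refine (bijective_iterateFrobenius R p n).1 ?_
    rw [iterateFrobenius_def, map_zero, hr, pow_add, h0, zero_mul]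
  let Q' : Finset K → Ideal P := fun F => (Ideal.span ((↑) '' (F : Set K) : Set P)).radical
  have hQK : ∀ F, Q' F ≤ K := fun F => hKr.radical_le_iff.2 (Ideal.span_le.2 (by rintro x ⟨y, _, rfl⟩; exact y.2))
  have hQm : Monotone Q' := fun F F' h => Ideal.radical_mono (Ideal.span_mono (Set.image_mono (by exact_mod_cast h)))
  let D' : Finset K ⥤ (Pr p B).FullSubcategory :=
    { obj := fun F => mkObj (P ⧸ Q' F) (quot_perfect (Ideal.radical_isRadical _))
      map := fun {F F'} f => ObjectProperty.homMk (Under.homMk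
        (CommRingCat.ofHom (Ideal.Quotient.factor (hQm (leOfHom f)))) (by ext; rfl))
      map_id := fun F => by ext x; obtain ⟨y, rfl⟩ := Ideal.Quotient.mk_surjective x; rfl
      map_comp := fun f g => by ext x; obtain ⟨y, rfl⟩ := Ideal.Quotient.mk_surjective x; rfl }
  have hbase : ∀ b : B, gP (algebraMap B P b) = A.obj.hom.hom b := fun b =>
    (hgP _).trans (g.commutes b)
  let ev : (F : Finset K) → P ⧸ Q' F →+* R := fun F => Ideal.Quotient.lift _ gP (fun x hx => hQK F hx)
  let c' : Cocone D' :=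
    { pt := A
      ι := { app := fun F => ObjectProperty.homMk (Under.homMk (CommRingCat.ofHom (ev F))
              (by ext b; exact hbase b))
             naturality := fun F F' f => by ext x; obtain ⟨y, rfl⟩ := Ideal.Quotient.mk_surjective x; rfl } }
  obtain ⟨hc'⟩ := isColimit_of_pointwise c'
    (fun x => by obtain ⟨y, rfl⟩ := hgPs x; exact ⟨∅, Ideal.Quotient.mk _ y, rfl⟩)
    (fun F y z h => by
      obtain ⟨y, rfl⟩ := Ideal.Quotient.mk_surjective y
      obtain ⟨z, rfl⟩ := Ideal.Quotient.mk_surjective z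
      have hk : y - z ∈ K := by rw [RingHom.mem_ker, map_sub, sub_eq_zero]; exact h
      refine ⟨insert ⟨y - z, hk⟩ F, homOfLE (Finset.subset_insert _ _), ?_⟩
      exact Ideal.Quotient.eq.2 (Ideal.le_radical (Ideal.subset_span ⟨⟨y - z, hk⟩, by simp, rfl⟩)))
  obtain ⟨F, s, hs⟩ := IsFinitelyPresentable.exists_hom_of_isColimit hc' (𝟙 A)
  have hs' : ∀ x, ev F (s.hom.right x) = x := fun x => congrArg (fun f => f.hom.right x) hs
  -- enlarge the relations
  have hlift : ∀ a : S, ∃ t : P, Ideal.Quotient.mk (Q' F) t = s.hom.right (a : R) := fun a =>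
    Ideal.Quotient.mk_surjective _
  choose t ht using hlift
  have htK : ∀ a : S, t a - ofP (MvPolynomial.X a) ∈ K := fun a => by
    rw [RingHom.mem_ker, map_sub, sub_eq_zero, hgP, MvPolynomial.aeval_X]
    exact (congrArg (ev F) (ht a)).trans (hs' _)
  let F' : Finset K := F ∪ Finset.univ.image fun a : S => ⟨_, htK a⟩
  have hFF' : Q' F ≤ Q' F' := hQm Finset.subset_union_left
  haveI : CharP (P ⧸ Q' F') p := by
    haveI : Nontrivial (P ⧸ Q' F') := (ev F').domain_nontrivial
    exact (CharP.charP_iff_prime_eq_zero hp).2 (quot_perfect (Ideal.radical_isRadical _)).1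
  let e : P →+* P ⧸ Q' F' :=
    (Ideal.Quotient.factor hFF').comp (s.hom.right.hom.comp gP)
  have he : e.comp ofP = (Ideal.Quotient.mk (Q' F')).comp ofP := by
    refine MvPolynomial.ringHom_ext (fun b => ?_) (fun a => ?_)
    · have h1 : s.hom.right (A.obj.hom.hom b) = Ideal.Quotient.mk (Q' F) (algebraMap B P b) :=
        congrArg (fun f => f b) (Under.w s.hom)
      show Ideal.Quotient.factor hFF' (s.hom.right (gP (algebraMap B P b))) = _
      rw [hbase, h1]; rfl
    · show Ideal.Quotient.factor hFF' (s.hom.right (gP (ofP (MvPolynomial.X a)))) = _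
      rw [hgP, MvPolynomial.aeval_X, ← ht a]
      exact Ideal.Quotient.eq.2 (Ideal.le_radical (Ideal.subset_span
        ⟨⟨_, htK a⟩, by simp [F'], rfl⟩))
  have hKeq : K = Q' F' := le_antisymm (fun x hx => by
    obtain ⟨n, y, hy⟩ := hofP x
    have h1 : e x = 0 := by
      show Ideal.Quotient.factor hFF' (s.hom.right (gP x)) = 0
      rw [RingHom.mem_ker.1 hx, map_zero, map_zero]
    have h2 : Ideal.Quotient.mk (Q' F') x ^ p ^ n = 0 := by
      rw [← map_pow, ← hy]
      show ((Ideal.Quotient.mk (Q' F')).comp ofP) y = 0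
      rw [← he, RingHom.comp_apply, hy, map_pow, h1, zero_pow (pow_ne_zero _ hp.ne_zero)]
    exact Ideal.radical_isRadical _ ⟨p ^ n, Ideal.Quotient.eq_zero_iff_mem.1 (by rw [map_pow]; exact h2)⟩)
    (hQK F')
  -- descend the relations
  choose N y hy using fun x : K => hofP x.1
  let I₀ : Ideal Q := Ideal.span ↑(F'.image y)
  haveI := Algebra.FinitePresentation.quotient (R := B) (I := I₀) ⟨F'.image y, rfl⟩
  have hI₀ : ∀ x ∈ I₀, g x = 0 := fun x hx => by
    refine (Ideal.span_le (I := RingHom.ker g.toRingHom)).2 ?_ hx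
    rintro x hx
    obtain ⟨a, -, rfl⟩ := Finset.mem_image.1 hx
    show g (y a) = 0
    rw [← hgP, hy, map_pow, RingHom.mem_ker.1 a.2, zero_pow (pow_ne_zero _ hp.ne_zero)]
  have hK0 : K ≤ (I₀.map ofP).radical := by
    rw [hKeq]
    refine Ideal.radical_le_radical_iff.2 (Ideal.span_le.2 ?_)
    rintro x ⟨a, ha, rfl⟩
    exact ⟨p ^ N a, (hy a) ▸ Ideal.mem_map_of_mem ofP
      (Ideal.subset_span (Finset.mem_image_of_mem y ha))⟩
  refine ⟨Q ⧸ I₀, inferInstance, inferInstance, inferInstance, Ideal.Quotient.lift I₀ g.toRingHom hI₀,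
    RingHom.ext fun b => g.commutes b, ⟨fun x => ?_, fun x hx => ?_⟩⟩
  · obtain ⟨n, hn⟩ := hgen x
    rw [← hrange] at hn
    obtain ⟨z, hz⟩ := hn
    exact ⟨n, Ideal.Quotient.mk _ z, hz⟩
  · obtain ⟨x, rfl⟩ := Ideal.Quotient.mk_surjective x
    obtain ⟨m, hm⟩ := hK0 (show ofP x ∈ K by rw [RingHom.mem_ker, hgP]; exact hx)
    rw [← map_pow] at hm
    -- roots of the coefficients
    have key : ∀ z ∈ I₀.map ofP, ∃ n, ∃ w ∈ I₀, ofP w = z ^ p ^ n := by
      intro z hz
      induction hz using Submodule.span_induction with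
      | mem z hz =>
        obtain ⟨w, hw, rfl⟩ := hz
        exact ⟨0, w, hw, by simp⟩
      | zero => exact ⟨0, 0, zero_mem _, by simp⟩
      | add z z' _ _ h h' =>
        obtain ⟨n, w, hw, e1⟩ := h
        obtain ⟨n', w', hw', e2⟩ := h'
        refine ⟨n + n', w ^ p ^ n' + w' ^ p ^ n, add_mem (Ideal.pow_mem_of_mem _ hw _ (pow_pos hp.pos _))
          (Ideal.pow_mem_of_mem _ hw' _ (pow_pos hp.pos _)), ?_⟩
        rw [add_pow_char_pow, map_add, map_pow, map_pow, e1, e2, ← pow_mul, ← pow_mul, ← pow_add,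
          ← pow_add, add_comm n']
      | smul c z _ h =>
        obtain ⟨n, w, hw, e1⟩ := h
        obtain ⟨n', d, e2⟩ := hofP c
        refine ⟨n + n', d ^ p ^ n * w ^ p ^ n', Ideal.mul_mem_left _ _ (Ideal.pow_mem_of_mem _ hw _ (pow_pos hp.pos _)), ?_⟩
        rw [smul_eq_mul, mul_pow, map_mul, map_pow, map_pow, e1, e2, ← pow_mul, ← pow_mul, ← pow_add,
          ← pow_add, add_comm n']
    obtain ⟨n, w, hw, e1⟩ := key _ hm
    rw [← map_pow, PerfectClosure.of_apply, PerfectClosure.of_apply, PerfectClosure.mk_eq_iff] at e1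
    obtain ⟨l, hl⟩ := e1
    simp only [zero_add, iterate_frobenius, ← pow_mul] at hl
    refine mem_pNilradical.2 ?_
    have hnil : IsNilpotent (Ideal.Quotient.mk I₀ x) := ⟨m * p ^ n * p ^ l, by
      rw [← map_pow, Ideal.Quotient.eq_zero_iff_mem, ← hl]
      exact Ideal.pow_mem_of_mem _ hw _ (pow_pos hp.pos _)⟩
    obtain ⟨j, hj⟩ := hnil
    exact ⟨j, by
      obtain ⟨r, hr⟩ : ∃ r, p ^ j = j + r := ⟨p ^ j - j, by have := Nat.lt_pow_self (n := j) hp.one_lt; omega⟩
      rw [hr, pow_add, hj, zero_mul]⟩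

end GrothLib.PerfFP
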